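import Groth.Agent.Lead.SmoothStalk
import Groth.Agent.Lead.AmpZero

/-!
# Tor amplitude of a morphism into a smooth scheme

If `q : Y ⟶ S` is smooth of relative dimension `n` and a complex on `X` has tor amplitude in `[a, b]` over `S`,
it has tor amplitude in `[a - n, b]` over `Y`.
-/

set_option autoImplicit false
set_option linter.style.haveILetI false
set_option backward.isDefEq.respectTransparency false
set_option backward.isDefEq.respectTransparency.types false
set_option backward.defeqAttrib.useBackward true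

universe u

open CategoryTheory CategoryTheory.Limits AlgebraicGeometry Opposite TopologicalSpace

noncomputable section

attribute [local instance] HasDerivedCategory.standard

namespace Groth.L24.TorSmooth

variable {X Y S : Scheme.{u}}

/-- A complex of modules over the local ring at `y` of a scheme smooth of relative dimension `n` over the base. -/
theorem amp_smooth (q : Y ⟶ S) {n : ℕ} [SmoothOfRelativeDimension n q] (y : Y) (a b : ℤ)
    (C : DRing.Cx (Y.presheaf.stalk y))
    (h : letI : Algebra (S.presheaf.stalk (q y)) (Y.presheaf.stalk y) := (q.stalkMap y).hom.toAlgebra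
      DRing.HasTorAmplitudeIn (S.presheaf.stalk (q y)) a b
        (DRing.toD (Groth.L20.TorAmp.res (A := S.presheaf.stalk (q y)) C))) :
    DRing.HasTorAmplitudeIn (Y.presheaf.stalk y) (a - n) b (DRing.toD C) := by
  obtain ⟨U, hU, W, hW, hxW, e, hsm⟩ :=
    SmoothOfRelativeDimension.exists_isStandardSmoothOfRelativeDimension (n := n) (f := q) y
  letI : Algebra Γ(S, U) Γ(Y, W) := (q.appLE U W e).hom.toAlgebra
  haveI : Algebra.IsStandardSmoothOfRelativeDimension n Γ(S, U) Γ(Y, W) := hsm
  letI : Algebra Γ(S, U) (S.presheaf.stalk (q y)) := TopCat.Presheaf.algebra_section_stalk S.presheaf ⟨q y, e hxW⟩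
  letI : Algebra Γ(Y, W) (Y.presheaf.stalk y) := TopCat.Presheaf.algebra_section_stalk Y.presheaf ⟨y, hxW⟩
  haveI : IsLocalization.AtPrime (S.presheaf.stalk (q y)) (hU.primeIdealOf ⟨q y, e hxW⟩).asIdeal :=
    hU.isLocalization_stalk ⟨q y, e hxW⟩
  haveI : IsLocalization.AtPrime (Y.presheaf.stalk y) (hW.primeIdealOf ⟨y, hxW⟩).asIdeal :=
    hW.isLocalization_stalk ⟨y, hxW⟩
  letI : Algebra (S.presheaf.stalk (q y)) (Y.presheaf.stalk y) := (q.stalkMap y).hom.toAlgebra
  letI : Algebra Γ(S, U) (Y.presheaf.stalk y) :=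
    ((algebraMap Γ(Y, W) (Y.presheaf.stalk y)).comp (algebraMap Γ(S, U) Γ(Y, W))).toAlgebra
  haveI : IsScalarTower Γ(S, U) Γ(Y, W) (Y.presheaf.stalk y) := IsScalarTower.of_algebraMap_eq fun _ => rfl
  haveI : IsScalarTower Γ(S, U) (S.presheaf.stalk (q y)) (Y.presheaf.stalk y) :=
    IsScalarTower.of_algebraMap_eq fun s => by
      change Y.presheaf.germ W y hxW ((q.appLE U W e).hom s) = (q.stalkMap y).hom (S.presheaf.germ U (q y) (e hxW) s)
      refine Eq.trans ?_ (Scheme.Hom.germ_stalkMap_apply q U y (e hxW) s).symm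
      exact TopCat.Presheaf.germ_res_apply Y.presheaf (homOfLE e) y hxW (q.app U s)
  exact Groth.Lead.SmoothAmp.amp_localization_smooth n (hU.primeIdealOf ⟨q y, e hxW⟩).asIdeal.primeCompl
    (hW.primeIdealOf ⟨y, hxW⟩).asIdeal.primeCompl (A := Γ(S, U)) (B := Γ(Y, W)) (Ap := S.presheaf.stalk (q y))
    (Bq := Y.presheaf.stalk y) a b C h

/-- Stalks over the base of a composite. -/
def stalkOverComp (f : X ⟶ Y) (q : Y ⟶ S) (x : X) :
    DerSch.stalkOver f x ⋙ ModuleCat.restrictScalars (q.stalkMap (f x)).hom ≅ DerSch.stalkOver (f ≫ q) x :=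
  Functor.associator _ _ _ ≪≫
    Functor.isoWhiskerLeft (DerSch.stalkFunctor X x)
      (ModuleCat.restrictScalarsComp' (q.stalkMap (f x)).hom (f.stalkMap x).hom ((f ≫ q).stalkMap x).hom
        (by rw [Scheme.Hom.stalkMap_comp]; rfl)).symm

/-- Tor amplitude over the base gives tor amplitude over a smooth scheme over it. -/
theorem amp_comp_smooth (f : X ⟶ Y) (q : Y ⟶ S) {n : ℕ} [SmoothOfRelativeDimension n q] (x : X) (a b : ℤ)
    (G : CochainComplex X.Modules ℤ) (h : DerSch.HasTorAmplitudeAt (f ≫ q) a b G x) :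
    DerSch.HasTorAmplitudeAt f (a - n) b G x := by
  refine amp_smooth q (f x) a b _ ?_
  exact Groth.L10.DR.amp_of_iso
    (DerivedCategory.Q.mapIso ((NatIso.mapHomologicalComplex (stalkOverComp f q x) (ComplexShape.up ℤ)).app G).symm) h

/-- A flat morphism has tor amplitude `[0, 0]`. -/
theorem amp_flat (p : X ⟶ S) [Flat p] (x : X) : DerSch.HasTorAmplitudeAt p 0 0 (DerSch.unitCx X) x :=
  ((Groth.Lead.AmpZero.amp_single_iff p (Coh.structureModule X)).2
    ((Groth.Lead.AmpZero.isFlatOver_structureModule_iff p).2 inferInstance)) x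

theorem hasTorDimLE (f : X ⟶ Y) (q : Y ⟶ S) {n : ℕ} [SmoothOfRelativeDimension n q] [Flat (f ≫ q)] :
    DerSch.HasTorDimLE f n := fun x => by
  have := amp_comp_smooth f q (n := n) x 0 0 _ (amp_flat (f ≫ q) x)
  rwa [zero_sub] at this

end Groth.L24.TorSmooth
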